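import Mathlib
import Groth.Prelude

/-!
# Cartesian comparison maps of modules: unit, uniqueness, two-out-of-three (helper19)
-/

set_option autoImplicit false

universe u

open CategoryTheory CategoryTheory.Limits AlgebraicGeometry

namespace Groth.Agent.Helper19.ModStFib

open ModSt

variable {Y Z W : Scheme.{u}}

/-- The unit of the pull-back/push-forward adjunction is a cartesian comparison map. -/
theorem isCart_unit (h : Y ⟶ Z) (N : Z.Modules) :
    IsCart h ((Scheme.Modules.pullbackPushforwardAdjunction h).unit.app N) := by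
  intro M'
  have heq : (fun v : (Scheme.Modules.pullback h).obj N ⟶ M' =>
      (Scheme.Modules.pullbackPushforwardAdjunction h).unit.app N ≫
        (Scheme.Modules.pushforward h).map v) =
      ((Scheme.Modules.pullbackPushforwardAdjunction h).homEquiv N M') := by
    funext v
    rw [Adjunction.homEquiv_unit]
  rw [heq]
  exact Equiv.bijective _

/-- Two cartesian comparison maps out of the same module have isomorphic sources. -/
theorem nonempty_iso_of_isCart {h : Y ⟶ Z} {N : Z.Modules} {M M' : Y.Modules}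
    {c : N ⟶ (Scheme.Modules.pushforward h).obj M} {c' : N ⟶ (Scheme.Modules.pushforward h).obj M'}
    (hc : IsCart h c) (hc' : IsCart h c') : Nonempty (M ≅ M') := by
  obtain ⟨α, hα⟩ := (hc M').2 c'
  obtain ⟨β, hβ⟩ := (hc' M).2 c
  simp only at hα hβ
  refine ⟨⟨α, β, ?_, ?_⟩⟩
  · apply (hc M).1
    simp only [Functor.map_comp]
    rw [← Category.assoc, hα, hβ, CategoryTheory.Functor.map_id, Category.comp_id]
  · apply (hc' M').1
    simp only [Functor.map_comp]
    rw [← Category.assoc, hβ, hα, CategoryTheory.Functor.map_id, Category.comp_id]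

/-- Two-out-of-three: if `c₂` and the composite of `c₁`, `c₂` are cartesian then `c₁` is. -/
theorem isCart_of_comp {h₁ : Y ⟶ Z} {h₂ : Z ⟶ W} {P : W.Modules} {N : Z.Modules} {M : Y.Modules}
    {c₁ : N ⟶ (Scheme.Modules.pushforward h₁).obj M} {c₂ : P ⟶ (Scheme.Modules.pushforward h₂).obj N}
    (hc₂ : IsCart h₂ c₂)
    (hc : IsCart (h₁ ≫ h₂) (c₂ ≫ (Scheme.Modules.pushforward h₂).map c₁ ≫
      (Scheme.Modules.pushforwardComp h₁ h₂).hom.app M)) : IsCart h₁ c₁ := by
  intro M'
  have heq : (fun v : M ⟶ M' => (c₂ ≫ (Scheme.Modules.pushforward h₂).map c₁ ≫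
      (Scheme.Modules.pushforwardComp h₁ h₂).hom.app M) ≫ (Scheme.Modules.pushforward (h₁ ≫ h₂)).map v) =
      (((Scheme.Modules.pushforwardComp h₁ h₂).app M').homToEquiv ∘
        (fun w : N ⟶ (Scheme.Modules.pushforward h₁).obj M' => c₂ ≫ (Scheme.Modules.pushforward h₂).map w)) ∘
        (fun v : M ⟶ M' => c₁ ≫ (Scheme.Modules.pushforward h₁).map v) := by
    funext v
    simp only [Function.comp_apply, Iso.homToEquiv_apply, Iso.app_hom, Category.assoc, Functor.map_comp]
    rw [← (Scheme.Modules.pushforwardComp h₁ h₂).hom.naturality v]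
    rfl
  have h1 := hc M'
  rw [heq] at h1
  exact (Function.Bijective.of_comp_iff' ((Equiv.bijective _).comp (hc₂ _)) _).1 h1

end Groth.Agent.Helper19.ModStFib
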