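import Mathlib
import Groth.Prelude
import Groth.Agent.Lib.Helper19.ModStFib.Cart

/-!
# The category of modules on base changes is fibred in groupoids (helper19)
-/

set_option autoImplicit false

universe u

open CategoryTheory CategoryTheory.Limits AlgebraicGeometry

namespace Groth.Agent.Helper19.ModStFib

open ModSt

variable {X S : Scheme.{u}} {f : X ⟶ S}

/-- The comparison maps of equal morphisms are (heterogeneously) equal. -/
theorem c_heq {A B : Obj f} {φ ψ : A ⟶ B} (h : φ = ψ) : HEq φ.c ψ.c := by
  subst h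
  rfl

/-- The pulled-back object. -/
noncomputable def pullObj (A : Obj f) {V : Over S} (g : V ⟶ A.base) : Obj f where
  base := V
  XT := pullback A.q g.left
  p := pullback.fst A.q g.left ≫ A.p
  q := pullback.snd A.q g.left
  isPullback := by
    have h1 : IsPullback (pullback.fst A.q g.left) (pullback.snd A.q g.left) A.q g.left :=
      IsPullback.of_hasPullback _ _
    have h2 := h1.paste_horiz A.isPullback
    rw [Over.w g] at h2
    exact h2
  E := (Scheme.Modules.pullback (pullback.fst A.q g.left)).obj A.E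

/-- The cartesian morphism from the pulled-back object. -/
noncomputable def pullHom (A : Obj f) {V : Over S} (g : V ⟶ A.base) : pullObj A g ⟶ A where
  base := g
  top := pullback.fst A.q g.left
  w_p := rfl
  w_q := pullback.condition
  c := (Scheme.Modules.pullbackPushforwardAdjunction (pullback.fst A.q g.left)).unit.app A.E
  cart := isCart_unit _ _

theorem exists_lift {A : Obj f} {V : Over S} (g : V ⟶ (Obj.forget f).obj A) :
    ∃ (B : Obj f) (φ : B ⟶ A), (Obj.forget f).IsHomLift g φ := by
  refine ⟨pullObj A g, pullHom A g, ?_⟩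
  show (Obj.forget f).IsHomLift ((Obj.forget f).map (pullHom A g)) (pullHom A g)
  infer_instance

/-- Equal morphisms with the same underlying maps have equal comparison maps. -/
theorem c_eq_of_mk_eq {A B : Obj f} {b : A.base ⟶ B.base} {t : A.XT ⟶ B.XT}
    {wp wp' : t ≫ B.p = A.p} {wq wq' : t ≫ B.q = A.q ≫ b.left}
    {c c' : B.E ⟶ (Scheme.Modules.pushforward t).obj A.E} {cart : IsCart t c} {cart' : IsCart t c'}
    (h : (⟨b, t, wp, wq, c, cart⟩ : Obj.Hom A B) = ⟨b, t, wp', wq', c', cart'⟩) : c = c' := by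
  injection h

theorem base_eq_of_isHomLift {C A : Obj f} (g : (Obj.forget f).obj C ⟶ (Obj.forget f).obj A) (χ : C ⟶ A)
    (h : (Obj.forget f).IsHomLift g χ) : χ.base = g := by
  have h1 := IsHomLift.fac (Obj.forget f) g χ
  simp only [eqToHom_refl, Category.id_comp, Category.comp_id] at h1
  exact h1.symm

/-- Existence and uniqueness of factorisations through a morphism. -/
theorem existsUnique_fac {A B C : Obj f} (φ : A ⟶ B) (g : C.base ⟶ A.base) (φ' : C ⟶ B)
    (hb : φ'.base = g ≫ φ.base) :
    ∃! χ : C ⟶ A, (Obj.forget f).IsHomLift g χ ∧ χ ≫ φ = φ' := by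
  obtain ⟨b', t', wp', wq', c', cart'⟩ := φ'
  change b' = g ≫ φ.base at hb
  subst hb
  obtain ⟨t, ht1, ht2⟩ : ∃ t : C.XT ⟶ A.XT, t ≫ φ.top = t' ∧ t ≫ A.q = C.q ≫ g.left := by
    refine ⟨φ.isPullback_top.lift t' (C.q ≫ g.left) ?_, IsPullback.lift_fst _ _ _ _,
      IsPullback.lift_snd _ _ _ _⟩
    rw [wq']
    simp
  subst ht1
  obtain ⟨v, hv⟩ := (φ.cart ((Scheme.Modules.pushforward t).obj C.E)).2
    (c' ≫ (Scheme.Modules.pushforwardComp t φ.top).inv.app C.E)
  simp only at hv
  have hc' : φ.c ≫ (Scheme.Modules.pushforward φ.top).map v ≫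
      (Scheme.Modules.pushforwardComp t φ.top).hom.app C.E = c' := by
    rw [← Category.assoc, hv, Category.assoc, Iso.inv_hom_id_app, Category.comp_id]
  subst hc'
  have wp : t ≫ A.p = C.p := by
    rw [← wp', Category.assoc, φ.w_p]
  let χ : C ⟶ A := ⟨g, t, wp, ht2, v, isCart_of_comp φ.cart cart'⟩
  refine ⟨χ, ⟨?_, rfl⟩, ?_⟩
  · show (Obj.forget f).IsHomLift ((Obj.forget f).map χ) χ
    infer_instance
  · rintro χ' ⟨hχ', hχc⟩
    have hb'' : χ'.base = g := base_eq_of_isHomLift g χ' hχ'
    have htt : χ'.top = t := by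
      apply φ.isPullback_top.hom_ext
      · exact congrArg Obj.Hom.top hχc
      · rw [χ'.w_q, hb'', ht2]
    obtain ⟨b'', t'', wp'', wq'', c'', cart''⟩ := χ'
    change b'' = g at hb''
    change t'' = t at htt
    subst hb''
    subst htt
    have h3 : φ.c ≫ (Scheme.Modules.pushforward φ.top).map c'' ≫
        (Scheme.Modules.pushforwardComp t'' φ.top).hom.app C.E =
        φ.c ≫ (Scheme.Modules.pushforward φ.top).map v ≫
        (Scheme.Modules.pushforwardComp t'' φ.top).hom.app C.E := c_eq_of_mk_eq hχc
    rw [← Category.assoc, ← Category.assoc, cancel_mono] at h3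
    have h4 : c'' = v := (φ.cart _).1 h3
    subst h4
    rfl

theorem isStronglyCartesian {A B : Obj f} (φ : A ⟶ B) :
    (Obj.forget f).IsStronglyCartesian ((Obj.forget f).map φ) φ where
  universal_property' {C} g φ' hφ' := by
    apply existsUnique_fac φ g φ'
    have h1 := IsHomLift.fac (Obj.forget f) (g ≫ (Obj.forget f).map φ) φ'
    simp only [eqToHom_refl, Category.id_comp, Category.comp_id] at h1
    exact h1.symm

theorem isFibGrpd_fam (f : X ⟶ S) : FibCat.IsFibGrpd (Fam f).p where
  exists_lift g := exists_lift g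
  isStronglyCartesian φ := isStronglyCartesian φ

end Groth.Agent.Helper19.ModStFib
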