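import Mathlib
import Groth.Prelude
import Groth.Agent.Lib.Helper19.ModStFib.Fam
import Groth.Agent.Lib.Helper19.OpenSub
import Groth.Agent.Lib.Helper5.RPR3
import Groth.Agent.Lib.Helper5.BCF4
import Groth.Agent.Lib.Helper9.PrinPart4

/-!
# The category of flat finitely presented modules on base changes is fibred in groupoids (helper19)
-/

set_option autoImplicit false

universe u

open CategoryTheory CategoryTheory.Limits AlgebraicGeometry

namespace Groth.Agent.Helper19.ModStFib

open ModSt

variable {X S : Scheme.{u}} {f : X ⟶ S}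

/-- The source of a morphism has a module isomorphic to the pull-back of the module of the target. -/
theorem nonempty_pullback_iso {A B : Obj f} (φ : A ⟶ B) :
    Nonempty ((Scheme.Modules.pullback φ.top).obj B.E ≅ A.E) :=
  nonempty_iso_of_isCart (isCart_unit φ.top B.E) φ.cart

/-- Flat finitely presented objects are stable under pull-back. -/
theorem isCohObj_of_hom {A B : Obj f} (φ : A ⟶ B) (hB : IsCohObj B) : IsCohObj A := by
  obtain ⟨e⟩ := nonempty_pullback_iso φ
  refine ⟨?_, ?_⟩
  · exact Groth.Agent.Helper5.RPR.isFlatOver_of_iso A.q e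
      (Groth.Agent.Helper5.BCF.isFlatOver_pullback φ.isPullback_top B.E hB.1)
  · have h1 : CohB1.IsFP ((Scheme.Modules.pullback φ.top).obj B.E) :=
      Groth.Agent.Helper9.PrinPart4.isFinitePresentation_pullback φ.top B.E (hG := hB.2)
    exact (SheafOfModules.isFinitePresentation A.XT.ringCatSheaf).prop_of_iso e h1

theorem isFibGrpd_coh (f : X ⟶ S) : FibCat.IsFibGrpd (ModSt.Coh f).p :=
  Groth.Agent.Helper19.OpenSub.isFibGrpd_fullSub (isFibGrpd_fam f) IsCohObj
    (fun φ h => isCohObj_of_hom φ h)

end Groth.Agent.Helper19.ModStFib
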